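import Cfsg.Agent.H679.O8R.Core

/-!
# S3691, `PΩ⁺₈(q)`: box THREE (helper679)

`three` : a subgroup of `PΩ⁺₈(q)`, `q = p^a`, all of whose images under automorphisms fix a nonsingular point has order not divisible
by `p^(6a+2)` (even `p^(6a+1)`, `three'`).
-/

set_option autoImplicit false
set_option linter.unusedSectionVars false

namespace Cfsg.Agent.H679.O8R

open Module QuadraticMap Cfsg Cfsg.Geo Cfsg.Agent.LieClassical.OrthCore Cfsg.Agent.LieClassical.OrthTrans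
  Cfsg.Agent.LieClassical.OrthSimple Cfsg.Agent.ClassicalGeometry.OrthAut1
  Cfsg.Agent.ClassicalGeometry.OrthSemi Cfsg.Agent.H198.Classes
  Cfsg.Agent.LieClassical.QuadForms Cfsg.Agent.H198.ClassesPlus
  Cfsg.Agent.ClassicalGeometry.TrialityOct Cfsg.Agent.ClassicalGeometry.Triality
  Cfsg.Agent.ClassicalGeometry.TrialitySpaces Cfsg.Agent.H198.TriBase Cfsg.Agent.H198.TriAut
open Cfsg.Agent.H884.El Cfsg.Agent.H955 Cfsg.Agent.H954.TSing
open Cfsg.Agent.H708.O8 (I8 T8 RB)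
open Cfsg.Agent.H436 (Prim)
open Cfsg.Agent.H823.O8S Cfsg.Agent.H823.O8R
open Cfsg.Agent.AutOrth.Main (oe pe oe_apply pe_mk)
open Cfsg.Agent.H708.Rg (oe_lin toPO toPO_mk)
open scoped MatrixGroups Matrix

section gen

variable {F : Type} [Field F] [Fintype F] {p a : ℕ} {Q : QuadraticForm F (Fin 4 ⊕ Fin 4 → F)}

theorem eig_of_SW {g : GL I8 F} {w : I8 → F} (h : g ∈ SW (Submodule.span F {w})) : ∃ e : F, lin g w = e • w := by
  have h1 : (Submodule.span F {w}).map (lin g) = Submodule.span F {w} := h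
  have h2 : lin g w ∈ Submodule.span F {w} := by
    rw [← h1]
    exact ⟨w, Submodule.mem_span_singleton_self w, rfl⟩
  obtain ⟨e, he⟩ := Submodule.mem_span_singleton.1 h2
  exact ⟨e, he.symm⟩

theorem three_gen [hp : Fact p.Prime] [CharP F p] (hQ : Q = plusForm 4 F) (hG : Good Q) (hF : Nat.card F = p ^ a)
    (ha : 1 ≤ a) {R : Subgroup (POmega F ⇑Q)}
    (hV : ∀ α : MulAut (POmega F ⇑Q), ∃ w : I8 → F, Q w ≠ 0 ∧
      pre ⇑Q (R.map α.toMonoidHom) ≤ SW (Submodule.span F {w})) : ¬ p ^ (6 * a + 1) ∣ Nat.card R := by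
  subst hQ
  obtain ⟨w, hw, hR1⟩ := hV 1
  have hwc : plusForm 4 F (oconj w) ≠ 0 := by rwa [norm_oconj]
  set M' : G8 F := lG (oconj w) hwc with hM'
  have hM1 : M'.1 w = plusForm 4 F w • one8 F := by
    rw [hM', lG_apply]
    have := oconj_omul_omul w (one8 F)
    rwa [omul_one] at this
  have hM2 : ∀ (e : F) (v : V8 F), M'.1 (e • v) = e • M'.1 v := fun e v => omul_smul e (oconj w) v
  obtain ⟨w', hw', hR2⟩ := hV (toPO hG (tau hG * Psi _ M'))
  set f : POmega F ⇑(plusForm 4 F) ≃* P8 F := (pe hG).trans (Psi _ M') with hf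
  have hcard : Nat.card (R.map f.toMonoidHom) = Nat.card R := Subgroup.card_map_of_injective f.injective
  rw [← hcard]
  have hf1 : ∀ x : Omega F ⇑(plusForm 4 F), f (QuotientGroup.mk x) = QuotientGroup.mk (conjE _ M' (oe hG x)) := fun x => by
    rw [hf, MulEquiv.trans_apply, pe_mk]
    rfl
  refine core hG hF ha ?_ hw' ?_
  · rintro g ⟨x', hx', hxg⟩
    obtain ⟨x, rfl⟩ := QuotientGroup.mk_surjective x'
    have e1 : f (QuotientGroup.mk x) = (g : P8 F) := hxg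
    rw [hf1] at e1
    have e2 := QuotientGroup.eq.1 e1
    obtain ⟨c, hc⟩ := center_scalar hG e2
    have hxR : ((x : isometryGroup F ⇑(plusForm 4 F)) : GL I8 F) ∈ pre ⇑(plusForm 4 F)
        (R.map ((1 : MulAut (POmega F ⇑(plusForm 4 F))).toMonoidHom)) :=
      ⟨_, ⟨x, ⟨_, hx', rfl⟩, rfl⟩, rfl⟩
    obtain ⟨e, he⟩ := eig_of_SW (hR1 hxR)
    rw [← oe_lin hG] at he
    have e3 : (conjE _ M' (oe hG x) : V8 F ≃ₗ[F] V8 F) (one8 F) = e • one8 F := by
      have h1 : (conjE _ M' (oe hG x) : V8 F ≃ₗ[F] V8 F) (M'.1 w) = M'.1 ((oe hG x : V8 F ≃ₗ[F] V8 F) w) := by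
        rw [coe_conjE, conjLin_apply']
      rw [he, hM2, hM1, map_smul, smul_comm] at h1
      exact smul_right_injective _ hw h1
    refine ⟨c * e, ?_⟩
    have e4 := congrArg (conjE _ M' (oe hG x) : V8 F ≃ₗ[F] V8 F) (hc (one8 F))
    rw [map_smul, e3, smul_smul] at e4
    rw [← e4]
    change _ = ((conjE _ M' (oe hG x) : V8 F ≃ₗ[F] V8 F) * ((conjE _ M' (oe hG x) : V8 F ≃ₗ[F] V8 F)⁻¹ * (g : V8 F ≃ₗ[F] V8 F))) _
    rw [mul_inv_cancel_left]
  · rintro g g₁ ⟨x', hx', hxg⟩ hg₁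
    obtain ⟨x, rfl⟩ := QuotientGroup.mk_surjective x'
    have e1 : f (QuotientGroup.mk x) = (g : P8 F) := hxg
    set y : Omega F ⇑(plusForm 4 F) := (oe hG).symm g₁ with hy
    have hoy : oe hG y = g₁ := (oe hG).apply_symm_apply g₁
    have hyR : ((y : isometryGroup F ⇑(plusForm 4 F)) : GL I8 F) ∈ pre ⇑(plusForm 4 F)
        (R.map ((toPO hG (tau hG * Psi _ M')).toMonoidHom)) := by
      refine ⟨_, ⟨y, ⟨_, hx', ?_⟩, rfl⟩, rfl⟩
      change toPO hG (tau hG * Psi _ M') (QuotientGroup.mk x) = QuotientGroup.mk y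
      apply toPO_mk
      rw [MulAut.mul_apply, hoy, ← hg₁, ← e1, hf1]
      rfl
    obtain ⟨e, he⟩ := eig_of_SW (hR2 hyR)
    rw [← oe_lin hG, hoy] at he
    exact ⟨e, he⟩

end gen

section row

variable {F : Type} [Field F] [Fintype F] {p a r b s k t : ℕ} {R : Subgroup (T8 F)}

/-- **THREE**, sharp form -/
theorem three' (hF : Nat.card F = p ^ a) (hp : p.Prime) (ha : 1 ≤ a)
    (hV : ∀ α : MulAut (T8 F), FixV (R.map α.toMonoidHom)) : ¬ p ^ (6 * a + 1) ∣ Nat.card R := by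
  have := Fact.mk hp
  have hch : CharP F p := charP_of_card_eq_prime_pow (p := p) (f := a) (by rw [← hF, Nat.card_eq_fintype_card])
  exact three_gen (H198.Carriers.plusQ_eq 4 F) (H198.Carriers.good_plusQ (by norm_num)) hF ha (fun α => hV α)

/-- **THREE** -/
theorem three (hF : Nat.card F = p ^ a) (h : Nm p a r b s k t)
    (hV : ∀ α : MulAut (T8 F), FixV (R.map α.toMonoidHom)) : ¬ p ^ (6 * a + 2) ∣ Nat.card R := fun hd =>
  three' hF h.rb.hp h.rb.ha hV ((pow_dvd_pow p (by omega)).trans hd)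

end row

end Cfsg.Agent.H679.O8R
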