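import Cfsg.Agent.H679.O8R.Oct
import Cfsg.Agent.S0293

/-!
# S3691, `PΩ⁺₈(q)`: box THREE (helper679), the count

`core` : a subgroup of `PΩ⁺₈(q)` fixing the point `⟨1⟩` and a nonsingular point of the second module has order not divisible by
`p^(6a+1)`, `q = p^a`.
-/

set_option autoImplicit false
set_option linter.unusedSectionVars false

namespace Cfsg.Agent.H679.O8R

open Module QuadraticMap Cfsg Cfsg.Geo Cfsg.Agent.LieClassical.OrthCore Cfsg.Agent.LieClassical.OrthTrans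
  Cfsg.Agent.LieClassical.OrthSimple Cfsg.Agent.ClassicalGeometry.OrthAut1
  Cfsg.Agent.ClassicalGeometry.OrthSemi Cfsg.Agent.H198.Classes
  Cfsg.Agent.LieClassical.QuadForms Cfsg.Agent.H198.ClassesPlus
  Cfsg.Agent.ClassicalGeometry.TrialityOct Cfsg.Agent.ClassicalGeometry.Triality
  Cfsg.Agent.ClassicalGeometry.TrialitySpaces Cfsg.Agent.H198.TriBase Cfsg.Agent.H198.TriAut
open Cfsg.Agent.AutOrth.Main (oe pe oe_apply pe_mk)

/-- counting by a surjection with coset fibres -/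
theorem card_of_fibres {G T : Type*} [Group G] [Finite G] (f : G → T) (hf : Function.Surjective f) (S : Subgroup G)
    (h : ∀ x y, f x = f y ↔ x⁻¹ * y ∈ S) : Nat.card G = Nat.card T * Nat.card S := by
  have e : G ⧸ S ≃ T := Equiv.ofBijective
    (Quotient.lift f (fun x y hxy => (h x y).2 (QuotientGroup.leftRel_apply.1 hxy))) (by
      constructor
      · intro x y hxy
        induction x using QuotientGroup.induction_on with | H x => ?_
        induction y using QuotientGroup.induction_on with | H y => ?_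
        exact QuotientGroup.eq.2 ((h x y).1 hxy)
      · intro t
        obtain ⟨x, hx⟩ := hf t
        exact ⟨QuotientGroup.mk x, hx⟩)
  rw [S.card_eq_card_quotient_mul_card_subgroup, Nat.card_congr e]

section any

variable {F : Type*} [Field F]

theorem eq_one_of_pow {p : ℕ} [Fact p.Prime] [CharP F p] {e : F} {k : ℕ} (h : e ^ p ^ k = 1) : e = 1 := by
  have h1 : (e - 1) ^ p ^ k = 0 := by
    rw [sub_pow_char_pow, h, one_pow, sub_self]
  exact sub_eq_zero.1 (pow_eq_zero_iff (pow_ne_zero _ (Fact.out : p.Prime).ne_zero) |>.1 h1)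

theorem pow_smul_of {V : Type*} [AddCommGroup V] [Module F V] {g : V ≃ₗ[F] V} {v : V} {e : F} (h : g v = e • v) (n : ℕ) :
    (g ^ n) v = e ^ n • v := by
  induction n with
  | zero => simp
  | succ n ih =>
    rw [pow_succ, pow_succ]
    change (g ^ n) (g v) = _
    rw [h, map_smul, ih, smul_smul, mul_comm]

theorem fix_of_pow {p : ℕ} [Fact p.Prime] [CharP F p] {V : Type*} [AddCommGroup V] [Module F V] {g : V ≃ₗ[F] V} {v : V}
    {e : F} (h : g v = e • v) (hv : v ≠ 0) {k : ℕ} (hk : g ^ p ^ k = 1) : g v = v := by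
  have h1 := pow_smul_of h (p ^ k)
  rw [hk] at h1
  have h2 : (e ^ p ^ k - 1) • v = 0 := by
    rw [sub_smul, ← h1, one_smul]
    exact sub_self v
  have h3 : e ^ p ^ k = 1 := by
    rcases smul_eq_zero.1 h2 with h4 | h4
    · exact sub_eq_zero.1 h4
    · exact absurd h4 hv
  rw [h, eq_one_of_pow h3, one_smul]

/-- the projection of `Xh` to the simple group -/
noncomputable def piX (F : Type*) [Field F] : Xh F →* P8 F :=
  (QuotientGroup.mk' (Subgroup.center ↥(E (plusForm 4 F)))).comp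
    { toFun := fun t => ⟨t.1.1, t.2.1⟩
      map_one' := rfl
      map_mul' := fun _ _ => rfl }

theorem piX_apply (t : Xh F) : piX F t = QuotientGroup.mk ⟨t.1.1, t.2.1⟩ := rfl

theorem piX_surj (hG : Good (plusForm 4 F)) : Function.Surjective (piX F) := by
  intro x
  obtain ⟨g, rfl⟩ := QuotientGroup.mk_surjective x
  obtain ⟨g₁, g₂, h⟩ := exists_triple hG g.2
  exact ⟨⟨(g.1, g₁), g.2, E_le_O h.1.2.1, g₂, h.2⟩, rfl⟩

/-- the stabiliser of the pair `(1, w)` -/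
def S0 (w : V8 F) : Subgroup (Xh F) where
  carrier := {t | t.1.1 (one8 F) = one8 F ∧ t.1.2 w = w}
  mul_mem' := by
    rintro s t ⟨h1, h2⟩ ⟨h3, h4⟩
    constructor
    · change s.1.1 (t.1.1 _) = _
      rw [h3, h1]
    · change s.1.2 (t.1.2 _) = _
      rw [h4, h2]
  one_mem' := ⟨rfl, rfl⟩
  inv_mem' := by
    rintro t ⟨h1, h2⟩
    constructor
    · change t.1.1.symm _ = _
      rw [LinearEquiv.symm_apply_eq, h1]
    · change t.1.2.symm _ = _
      rw [LinearEquiv.symm_apply_eq, h2]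

theorem mem_S0 {w : V8 F} {t : Xh F} : t ∈ S0 w ↔ t.1.1 (one8 F) = one8 F ∧ t.1.2 w = w := Iff.rfl

end any

section fin

variable {F : Type} [Field F] [Fintype F] {p a : ℕ}

instance : Finite (V8 F ≃ₗ[F] V8 F) :=
  Finite.of_injective (fun g : V8 F ≃ₗ[F] V8 F => (g : V8 F → V8 F)) DFunLike.coe_injective

theorem card_norm {c : F} (hc : c ≠ 0) :
    Fintype.card F ^ 3 ∣ Nat.card {v : V8 F // plusForm 4 F v = c} := by
  classical
  have h := Cfsg.Agent.LieClassical.QuadCount.card_plus (F := F) 4 c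
  rw [if_neg hc, add_zero] at h
  have h1 : Nat.card {v : V8 F // plusForm 4 F v = c} = Nat.card {v : Fin 4 ⊕ Fin 4 → F // quadFormPlus 4 F v = c} := by
    rw [← coe_plusForm 4]
  rw [h1]
  have hq : 1 ≤ Fintype.card F := Fintype.card_pos
  refine ⟨Fintype.card F ^ 4 - 1, ?_⟩
  apply Nat.eq_of_mul_eq_mul_left hq
  have h2 : Fintype.card F * (Fintype.card F ^ 3 * (Fintype.card F ^ 4 - 1)) = Fintype.card F ^ (2 * 4) - Fintype.card F ^ 4 := by
    rw [← mul_assoc, Nat.mul_sub, mul_one]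
    congr 1
    · ring
    · ring
  rw [h2, ← h, Nat.add_sub_cancel]

theorem ne_zero_of_norm {v : V8 F} {c : F} (hc : c ≠ 0) (h : plusForm 4 F v = c) : v ≠ 0 := by
  rintro rfl
  rw [QuadraticMap.map_zero] at h
  exact hc h.symm

theorem card_Xh (hG : Good (plusForm 4 F)) {w : V8 F} (hw : plusForm 4 F w ≠ 0) :
    Nat.card (Xh F) = Nat.card {v : V8 F // plusForm 4 F v = 1} * Nat.card {v : V8 F // plusForm 4 F v = plusForm 4 F w} *
      Nat.card (S0 w) := by
  rw [← Nat.card_prod]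
  let f : Xh F → {v : V8 F // plusForm 4 F v = 1} × {v : V8 F // plusForm 4 F v = plusForm 4 F w} :=
    fun t => (⟨t.1.1 (one8 F), by rw [E_le_O t.2.1, norm_one8]⟩, ⟨t.1.2 w, t.2.2.1 w⟩)
  refine card_of_fibres (G := Xh F) f ?_ (S0 w) ?_
  · rintro ⟨⟨v, hv⟩, ⟨y, hy⟩⟩
    obtain ⟨g, hg, hgv⟩ := hG.trans_norm (one8_ne (F := F)) (ne_zero_of_norm one_ne_zero hv) (norm_one8.trans hv.symm)
    obtain ⟨g₁, g₂, ht⟩ := exists_triple hG hg
    obtain ⟨y', rfl⟩ := g₁.surjective y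
    have hy' : plusForm 4 F w = plusForm 4 F y' := by rw [← hy, E_le_O ht.1.2.1 y']
    obtain ⟨h, h₁, hh, hh1, hh2⟩ := exists_tri_move hG hw hy'
    refine ⟨⟨(g, g₁), hg, E_le_O ht.1.2.1, g₂, ht.2⟩ * ⟨(h, h₁), hh⟩, ?_⟩
    refine Prod.ext (Subtype.ext ?_) (Subtype.ext ?_)
    · change g (h (one8 F)) = v
      rw [hh1, hgv]
    · change g₁ (h₁ w) = g₁ y'
      rw [hh2]
  · intro x y
    have e1 : (x⁻¹ * y).1.1 (one8 F) = x.1.1.symm (y.1.1 (one8 F)) := rfl
    have e2 : (x⁻¹ * y).1.2 w = x.1.2.symm (y.1.2 w) := rfl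
    rw [mem_S0, e1, e2, LinearEquiv.symm_apply_eq, LinearEquiv.symm_apply_eq, Prod.ext_iff, Subtype.ext_iff, Subtype.ext_iff]
    exact ⟨fun h => ⟨h.1.symm, h.2.symm⟩, fun h => ⟨h.1.symm, h.2.symm⟩⟩

theorem scalar_one [hp : Fact p.Prime] [CharP F p] {g : V8 F ≃ₗ[F] V8 F} {c : F} (h : ∀ v, g v = c • v) {k : ℕ}
    (hk : g ^ p ^ k = 1) : g = 1 := by
  ext1 v
  by_cases hv : v = 0
  · rw [hv, map_zero, map_zero]
  · exact fix_of_pow (h v) hv hk

theorem not_dvd_ker [hp : Fact p.Prime] [CharP F p] (hG : Good (plusForm 4 F)) : ¬ p ∣ Nat.card (piX F).ker := by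
  intro h
  obtain ⟨t, ht⟩ := exists_prime_orderOf_dvd_card' p h
  have h1 : (t : Xh F) ^ p = 1 := by
    have := pow_orderOf_eq_one t
    rw [ht] at this
    rw [← Subgroup.coe_pow, this, Subgroup.coe_one]
  have h2 : t.1.1.1 ^ p ^ 1 = 1 := by
    rw [pow_one]
    exact congrArg (fun x : Xh F => x.1.1) h1
  have h3 : t.1.1.2 ^ p ^ 1 = 1 := by
    rw [pow_one]
    exact congrArg (fun x : Xh F => x.1.2) h1
  have h4 : piX F t.1 = 1 := t.2
  rw [piX_apply, QuotientGroup.eq_one_iff] at h4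
  obtain ⟨c, hc⟩ := center_scalar hG h4
  have hc' : ∀ v, t.1.1.1 v = c • v := hc
  have h5 := scalar_one hc' h2
  obtain ⟨g₂, h6⟩ := t.1.2.2.2
  obtain ⟨⟨d, hd⟩, -⟩ := h6.scalar (scalar_ne_zero hc') hc'
  have h7 := scalar_one hd h3
  have h8 : t = 1 := Subtype.ext (Subtype.ext (Prod.ext h5 h7))
  rw [h8, orderOf_one] at ht
  exact hp.out.one_lt.ne ht

theorem not_dvd_P8 [hp : Fact p.Prime] (hG : Good (plusForm 4 F)) (hF : Nat.card F = p ^ a) (ha : 1 ≤ a) :
    ¬ p ^ (12 * a + 1) ∣ Nat.card (P8 F) := by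
  intro h
  have h1 : Nat.card (P8 F) = Nat.card (POmega F (quadFormPlus 4 F)) := by
    rw [← Nat.card_congr (pe hG).toEquiv, coe_plusForm 4]
  rw [h1] at h
  rw [Nat.card_eq_fintype_card] at hF
  have h2 := S0293.result (F := F) hF 4 (by norm_num)
  have h3 : p ^ (12 * a + 1) ∣ (p ^ a) ^ (4 * (4 - 1)) *
      (((p ^ a) ^ 4 - 1) * ∏ i ∈ Finset.range (4 - 1), ((p ^ a) ^ (2 * (i + 1)) - 1)) := by
    rw [← mul_assoc, ← h2]
    exact h.mul_left _
  have h4 : p ^ (12 * a + 1) = (p ^ a) ^ (4 * (4 - 1)) * p := by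
    rw [pow_succ, ← pow_mul]
    congr 2
    ring
  rw [h4] at h3
  have h5 := (Nat.mul_dvd_mul_iff_left (Nat.pow_pos (Nat.pow_pos hp.out.pos))).1 h3
  have key : ∀ k : ℕ, 0 < k → ¬ p ∣ (p ^ a) ^ k - 1 := by
    intro k hk hdv
    have h6 : p ∣ (p ^ a) ^ k := dvd_pow (dvd_pow_self p (by omega)) (by omega)
    have h7 : 1 ≤ (p ^ a) ^ k := Nat.one_le_pow _ _ (Nat.pow_pos hp.out.pos)
    have h8 : p ∣ 1 := by
      have := Nat.dvd_sub h6 hdv
      rwa [Nat.sub_sub_self h7] at this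
    exact hp.out.one_lt.ne' (Nat.dvd_one.1 h8)
  rcases hp.out.dvd_mul.1 h5 with h6 | h6
  · exact key 4 (by norm_num) h6
  · obtain ⟨i, -, hi⟩ := (hp.out.prime.dvd_finsetProd_iff _).1 h6
    exact key (2 * (i + 1)) (by omega) hi

/-- **the count** -/
theorem core [hp : Fact p.Prime] [CharP F p] (hG : Good (plusForm 4 F)) (hF : Nat.card F = p ^ a) (ha : 1 ≤ a)
    {R : Subgroup (P8 F)}
    (h1 : ∀ g : ↥(E (plusForm 4 F)), (g : P8 F) ∈ R → ∃ e : F, (g : V8 F ≃ₗ[F] V8 F) (one8 F) = e • one8 F)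
    {w : V8 F} (hw : plusForm 4 F w ≠ 0)
    (h2 : ∀ g g₁ : ↥(E (plusForm 4 F)), (g : P8 F) ∈ R → tau hG (g : P8 F) = (g₁ : P8 F) →
      ∃ e : F, (g₁ : V8 F ≃ₗ[F] V8 F) w = e • w) : ¬ p ^ (6 * a + 1) ∣ Nat.card R := by
  intro hd
  have hd1 : p ^ (6 * a + 1) ∣ Nat.card (R.comap (piX F)) :=
    hd.trans (Subgroup.card_dvd_of_surjective ((piX F).subgroupComap R)
      (MonoidHom.subgroupComap_surjective_of_surjective _ _ (piX_surj hG)))
  obtain ⟨K, hK⟩ := Sylow.exists_subgroup_card_pow_prime p hd1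
  have hle : K.map (R.comap (piX F)).subtype ≤ S0 w := by
    rintro _ ⟨d, hdK, rfl⟩
    have e1 : d ^ p ^ (6 * a + 1) = 1 := by
      have := pow_card_eq_one' (x := (⟨d, hdK⟩ : K))
      rw [hK] at this
      exact congrArg Subtype.val this
    have e2 : (d : Xh F) ^ p ^ (6 * a + 1) = 1 := by rw [← Subgroup.coe_pow, e1, Subgroup.coe_one]
    have e3 : d.1.1.1 ^ p ^ (6 * a + 1) = 1 := congrArg (fun x : Xh F => x.1.1) e2
    have e4 : d.1.1.2 ^ p ^ (6 * a + 1) = 1 := congrArg (fun x : Xh F => x.1.2) e2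
    have e5 : ((⟨d.1.1.1, d.1.2.1⟩ : ↥(E (plusForm 4 F))) : P8 F) ∈ R := d.2
    obtain ⟨e, he⟩ := h1 _ e5
    obtain ⟨g₁, g₂, ht⟩ := exists_triple hG d.1.2.1
    obtain ⟨e', he'⟩ := h2 _ ⟨g₁, ht.1.2.1⟩ e5 (tau_mk hG ht)
    obtain ⟨g₂', h6⟩ := d.1.2.2.2
    obtain ⟨s, -, hs, -⟩ := ht.2.unique h6
    have e6 : d.1.1.2 w = (s * e') • w := by
      rw [hs, mul_smul]
      congr 1
    exact ⟨fix_of_pow he one8_ne e3, fix_of_pow e6 (ne_zero_of_norm hw rfl) e4⟩
  have hd2 : p ^ (6 * a + 1) ∣ Nat.card (S0 w) := by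
    have h3 := Subgroup.card_dvd_of_le hle
    rwa [Subgroup.card_map_of_injective (Subgroup.subtype_injective _), hK] at h3
  have hq : Fintype.card F = p ^ a := by rw [← Nat.card_eq_fintype_card, hF]
  have hd3 : p ^ (12 * a + 1) ∣ Nat.card (Xh F) := by
    have h4 := card_norm (F := F) (c := 1) one_ne_zero
    have h5 := card_norm (F := F) hw
    rw [card_Xh hG hw]
    have h6 : p ^ (12 * a + 1) = Fintype.card F ^ 3 * Fintype.card F ^ 3 * p ^ (6 * a + 1) := by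
      rw [hq]
      ring
    rw [h6]
    exact Nat.mul_dvd_mul (Nat.mul_dvd_mul h4 h5) hd2
  have h7 : Nat.card (Xh F) = Nat.card (P8 F) * Nat.card (piX F).ker := by
    rw [← Subgroup.card_mul_index (piX F).ker, Subgroup.index_ker, MonoidHom.range_eq_top.2 (piX_surj hG), Subgroup.card_top,
      mul_comm]
  rw [h7] at hd3
  refine not_dvd_P8 hG hF ha (Nat.Coprime.dvd_of_dvd_mul_right ?_ hd3)
  exact (Nat.Prime.coprime_iff_not_dvd hp.out).2 (not_dvd_ker hG) |>.pow_left _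

end fin

end Cfsg.Agent.H679.O8R
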