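import Cfsg.Agent.H708.Rg.TriV
import Cfsg.Agent.H708.Rg.OctJ
import Cfsg.Agent.LieClassical.QuadCount

/-!
# S3691, `PΩ⁺₈(q)`: box THREE (helper679), the octonions

`exists_tri_move` : the triality triples over the elements of `E` fixing `1` are transitive on the vectors of given nonzero norm of
the second module.
-/

set_option autoImplicit false
set_option linter.unusedSectionVars false

namespace Cfsg.Agent.H679.O8R

open Module QuadraticMap Cfsg Cfsg.Geo Cfsg.Agent.LieClassical.OrthCore Cfsg.Agent.LieClassical.OrthTrans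
  Cfsg.Agent.LieClassical.OrthSimple Cfsg.Agent.ClassicalGeometry.OrthAut1
  Cfsg.Agent.ClassicalGeometry.OrthSemi Cfsg.Agent.H198.Classes
  Cfsg.Agent.LieClassical.QuadForms Cfsg.Agent.H198.ClassesPlus
  Cfsg.Agent.ClassicalGeometry.TrialityOct Cfsg.Agent.ClassicalGeometry.Triality
  Cfsg.Agent.ClassicalGeometry.TrialitySpaces Cfsg.Agent.H198.TriBase Cfsg.Agent.H198.TriAut

section any

variable {F : Type*} [Field F]

/-- the trace of `w z̄` is `B(w, z)` -/
theorem polar_one_omul (w z : V8 F) :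
    polar (plusForm 4 F) (one8 F) (omul w (oconj z)) = polar (plusForm 4 F) w z := by
  rw [← polar_omul, one_omul, polar_comm]

theorem one8_ne : one8 F ≠ 0 := by
  intro h
  have h1 := norm_one8 (F := F)
  rw [h, QuadraticMap.map_zero] at h1
  exact zero_ne_one h1

theorem refl_fix {a x : V8 F} (ha : plusForm 4 F a ≠ 0) (h : polar (plusForm 4 F) a x = 0) :
    refl (plusForm 4 F) a ha x = x := by
  rw [refl_apply, h]
  simp

/-- two vectors have a common orthogonal nonsingular vector -/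
theorem exists_perp_nonsing [Finite F] (w y : V8 F) :
    ∃ z, plusForm 4 F z ≠ 0 ∧ polar (plusForm 4 F) w z = 0 ∧ polar (plusForm 4 F) y z = 0 := by
  by_contra hcon
  push Not at hcon
  let f : V8 F →ₗ[F] (Fin 2 → F) := LinearMap.pi fun i => polarBilin (plusForm 4 F) (![w, y] i)
  have hk : ∀ z ∈ LinearMap.ker f, plusForm 4 F z = 0 := by
    intro z hz
    have h0 : polar (plusForm 4 F) w z = 0 := congrFun (LinearMap.mem_ker.1 hz) 0
    have h1 : polar (plusForm 4 F) y z = 0 := congrFun (LinearMap.mem_ker.1 hz) 1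
    by_contra h2
    exact hcon z h2 h0 h1
  have h4 := finrank_le_four (W := LinearMap.ker f) hk
  have h8 := LinearMap.finrank_range_add_finrank_ker f
  have h2 : finrank F (LinearMap.range f) ≤ 2 := by
    refine (Submodule.finrank_le _).trans ?_
    rw [Module.finrank_fin_fun]
  have h9 : finrank F (V8 F) = 8 := by
    rw [finrank_fintype_fun_eq_card]
    simp
  have h10 : finrank F (LinearMap.range f) + finrank F (LinearMap.ker f) ≤ 2 + 4 := Nat.add_le_add h2 h4
  rw [h8, h9] at h10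
  exact absurd h10 (by norm_num)

/-- the pairs of members `(g, g₁)` of the triality triples of isometries with `g ∈ E` -/
def Xh (F : Type*) [Field F] : Subgroup ((V8 F ≃ₗ[F] V8 F) × (V8 F ≃ₗ[F] V8 F)) where
  carrier := {t | t.1 ∈ E (plusForm 4 F) ∧ t.2 ∈ O (plusForm 4 F) ∧ ∃ g₂, Tri t.1 t.2 g₂}
  mul_mem' := by
    rintro a b ⟨h1, h2, g, h3⟩ ⟨k1, k2, k, k3⟩
    exact ⟨mul_mem h1 k1, mul_mem h2 k2, _, h3.mul k3⟩
  one_mem' := ⟨one_mem _, one_mem _, 1, Tri.one⟩
  inv_mem' := by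
    rintro a ⟨h1, h2, g, h3⟩
    exact ⟨inv_mem h1, inv_mem h2, _, h3.inv⟩

theorem mem_Xh {g g₁ : V8 F ≃ₗ[F] V8 F} : (g, g₁) ∈ Xh F ↔
    g ∈ E (plusForm 4 F) ∧ g₁ ∈ O (plusForm 4 F) ∧ ∃ g₂, Tri g g₁ g₂ := Iff.rfl

/-- **the stabiliser of `1` is transitive on the second module** -/
theorem exists_tri_move [Finite F] (hG : Good (plusForm 4 F)) {w y : V8 F} (hw : plusForm 4 F w ≠ 0)
    (hwy : plusForm 4 F w = plusForm 4 F y) :
    ∃ g g₁, (g, g₁) ∈ Xh F ∧ g (one8 F) = one8 F ∧ g₁ w = y := by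
  obtain ⟨z, hz, hwz, hyz⟩ := exists_perp_nonsing w y
  have hy : plusForm 4 F y ≠ 0 := hwy ▸ hw
  have hn : plusForm 4 F w ≠ 0 := hw
  set n := plusForm 4 F w with hnd
  set m := plusForm 4 F z with hmd
  have hnm : n⁻¹ * m ≠ 0 := mul_ne_zero (inv_ne_zero hn) hz
  have hQ : ∀ x : V8 F, plusForm 4 F x = n → plusForm 4 F (n⁻¹ • omul x (oconj z)) = n⁻¹ * m := by
    intro x hx
    rw [QuadraticMap.map_smul, norm_omul, norm_oconj, hx, smul_eq_mul, ← hmd]
    field_simp
  have ha := hQ y hwy.symm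
  have hb := hQ w rfl
  have hp : ∀ x : V8 F, polar (plusForm 4 F) x z = 0 →
      polar (plusForm 4 F) (n⁻¹ • omul x (oconj z)) (one8 F) = 0 := by
    intro x hx
    rw [polar_smul_left, polar_comm, polar_one_omul, hx, smul_zero]
  set a : V8 F := n⁻¹ • omul y (oconj z) with had
  set b : V8 F := n⁻¹ • omul w (oconj z) with hbd
  have ha' : plusForm 4 F a ≠ 0 := by rwa [ha]
  have hb' : plusForm 4 F b ≠ 0 := by rwa [hb]
  refine ⟨refl (plusForm 4 F) a ha' * refl (plusForm 4 F) b hb', tri1 hnm ha hb, ?_, ?_, ?_⟩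
  · exact mem_Xh.2 ⟨hG.refl_mul_refl_mem hb' ha' (hb.trans ha.symm), tri1_mem _ _ _,
      _, tri_refl hnm ha hb ha' hb'⟩
  · change refl (plusForm 4 F) a ha' (refl (plusForm 4 F) b hb' (one8 F)) = one8 F
    rw [refl_fix _ (hp w hwz), refl_fix _ (hp y hyz)]
  · have h1 : oconj b = n⁻¹ • omul z (oconj w) := by
      have h2 : oconj (n⁻¹ • omul w (oconj z)) = n⁻¹ • oconj (omul w (oconj z)) := (kap F).map_smul _ _
      rw [hbd, h2, oconj_omul, oconj_oconj]
    have h2 : omul (oconj b) w = z := by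
      rw [h1, smul_omul, omul_oconj_omul', ← hnd, smul_smul, inv_mul_cancel₀ hn, one_smul]
    rw [tri1_apply, h2, had, smul_omul, omul_oconj_omul', ← hmd, smul_smul, smul_smul, mul_assoc,
      inv_mul_cancel₀ hnm, one_smul]

end any

end Cfsg.Agent.H679.O8R
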